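import Groth.Prelude.Def_Fitting
import Groth.Agent.Fit14.Props
import Mathlib.RingTheory.Etale.Kaehler
import Mathlib.RingTheory.Unramified.Basic
import Mathlib.RingTheory.LocalRing.Module
import Mathlib.RingTheory.Kaehler.Polynomial
import Mathlib.RingTheory.RingHom.Etale

/-!
The first Fitting ideal of the differentials cuts out an unramified algebra at a node.
-/

set_option autoImplicit false
set_option linter.style.haveILetI false
set_option maxHeartbeats 1600000
set_option synthInstance.maxHeartbeats 100000

universe u

open KaehlerDifferential TensorProduct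

noncomputable section

namespace Groth.Agent.NodeFit7

/-- Membership in the first Fitting ideal of two elements with a relation. -/
theorem mem_ideal_one {A M : Type u} [CommRing A] [AddCommGroup M] [Module A M] (x y : M) (a b : A)
    (hspan : Submodule.span A {x, y} = ⊤) (h : a • x + b • y = 0) :
    a ∈ Fitt.ideal A M 1 ∧ b ∈ Fitt.ideal A M 1 := by
  have hs : ∀ (p q : M), ({p, q} : Set M) = Set.range ![p, q] := fun p q => by
    rw [Matrix.range_cons, Matrix.range_cons, Matrix.range_empty, Set.union_empty, Set.singleton_union]
  have key : ∀ (p q : M) (c d : A), Submodule.span A {p, q} = ⊤ → c • p + d • q = 0 → c ∈ Fitt.ideal A M 1 := by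
    intro p q c d hpq hcd
    refine Ideal.subset_span ⟨2, ![p, q], !![c, d; 0, 1], by rw [← hs]; exact hpq, fun i hi => ?_, ?_⟩
    · fin_cases i
      · simpa [Fin.sum_univ_two] using hcd
      · simp at hi
    · simp [Matrix.det_fin_two]
  exact ⟨key x y a b hspan h, key y x b a (by rwa [Set.pair_comm]) (by rwa [add_comm])⟩

section node

variable {R C A' : Type u} [CommRing R] [CommRing C] [CommRing A'] [Algebra R C] [Algebra R A'] [Algebra C A']
  [IsScalarTower R C A']

/-- Differentials of an etale algebra over a two generator algebra are spanned by two differentials. -/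
theorem span_pair_of_surjective (π : MvPolynomial (Fin 2) R →ₐ[R] C) (hπ : Function.Surjective π)
    [Algebra.FormallyEtale C A'] :
    Submodule.span A' {D R A' (algebraMap C A' (π (MvPolynomial.X 0))),
      D R A' (algebraMap C A' (π (MvPolynomial.X 1)))} = ⊤ := by
  set N := Submodule.span A' {D R A' (algebraMap C A' (π (MvPolynomial.X 0))),
      D R A' (algebraMap C A' (π (MvPolynomial.X 1)))}
  have hc : ∀ c : C, D R A' (algebraMap C A' c) ∈ N := by
    intro c
    obtain ⟨p, rfl⟩ := hπ c
    induction p using MvPolynomial.induction_on with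
    | C r =>
      rw [← MvPolynomial.algebraMap_eq, AlgHom.commutes, ← IsScalarTower.algebraMap_apply, Derivation.map_algebraMap]
      exact zero_mem _
    | add p q hp hq => rw [map_add, map_add, map_add]; exact add_mem hp hq
    | mul_X p i hp =>
      rw [map_mul, map_mul, Derivation.leibniz]
      refine add_mem (N.smul_mem _ ?_) (N.smul_mem _ hp)
      fin_cases i <;> exact Submodule.subset_span (by simp)
  rw [eq_top_iff]
  rintro w -
  obtain ⟨t, rfl⟩ := (tensorKaehlerEquivOfFormallyEtale R C A').surjective w
  rw [tensorKaehlerEquivOfFormallyEtale_apply]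
  induction t using TensorProduct.induction_on with
  | zero => rw [map_zero]; exact zero_mem _
  | add s t hs ht => rw [map_add]; exact add_mem hs ht
  | tmul a m =>
    rw [mapBaseChange_tmul]
    refine N.smul_mem _ ?_
    have hm : m ∈ Submodule.span C (Set.range (D R C)) := by rw [span_range_derivation]; trivial
    induction hm using Submodule.span_induction with
    | mem m hm => obtain ⟨c, rfl⟩ := hm; rw [map_D]; exact hc c
    | zero => rw [map_zero]; exact zero_mem _
    | add m m' _ _ h h' => rw [map_add]; exact add_mem h h'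
    | smul c m _ h => rw [map_smul, ← algebraMap_smul A']; exact N.smul_mem _ h

end node

/-- Spanning differentials pass to an unramified extension of the constants, and back down. -/
theorem span_pair_transfer {O R R' A' : Type u} [CommRing O] [CommRing R] [CommRing R'] [CommRing A']
    [Algebra O R'] [Algebra R R'] [Algebra O A'] [Algebra R A'] [Algebra R' A'] [IsScalarTower O R' A']
    [IsScalarTower R R' A'] [Algebra.FormallyUnramified O R'] (x y : A')
    (h : Submodule.span A' {D R A' x, D R A' y} = ⊤) :
    Submodule.span A' {D O A' x, D O A' y} = ⊤ := by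
  have hinj : Function.Injective (KaehlerDifferential.map O R' A' A') := by
    rw [injective_iff_map_eq_zero]
    intro w hw
    obtain ⟨t, rfl⟩ := (exact_mapBaseChange_map O R' A' w).1 hw
    rw [Subsingleton.elim t 0, map_zero]
  have h' : Submodule.span A' {D R' A' x, D R' A' y} = ⊤ := by
    rw [← top_le_iff, ← Submodule.map_top (KaehlerDifferential.map R R' A' A') |>.trans
      (LinearMap.range_eq_top.2 (KaehlerDifferential.map_surjective R R' A')), ← h, Submodule.map_span_le]
    intro m hm
    rcases hm with rfl | rfl <;> rw [map_D] <;> exact Submodule.subset_span (by simp)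
  apply Submodule.map_injective_of_injective hinj
  rw [Submodule.map_span, Set.image_pair, map_D, map_D, Submodule.map_top,
    LinearMap.range_eq_top.2 (KaehlerDifferential.map_surjective O R' A')]
  simpa using h'

theorem exists_dual_ne_zero {k V : Type u} [Field k] [AddCommGroup V] [Module k V] {w : V} (hw : w ≠ 0) :
    ∃ φ : V →ₗ[k] k, φ w ≠ 0 := by
  by_contra hc
  push Not at hc
  exact hw ((Module.forall_dual_apply_eq_zero_iff k w).1 hc)

/-- The main algebraic step: the quotient by the first Fitting ideal is unramified at the point. -/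
theorem formallyUnramified_localization_of_node {O A A' A'' : Type u} [CommRing O] [CommRing A] [CommRing A']
    [CommRing A''] [Algebra O A] [Algebra O A'] [Algebra A A'] [IsScalarTower O A A'] [Algebra O A'']
    [Algebra.FiniteType O A] [Algebra.FormallyEtale A A'] (π : A →ₐ[O] A'') (hπ : Function.Surjective π)
    (hJ : Fitt.ideal A Ω[A⁄O] 1 ≤ RingHom.ker π) (u v : A')
    (hspan : Submodule.span A' {D O A' u, D O A' v} = ⊤) (huv : D O A' (u * v) = 0)
    (q : Ideal A') [q.IsPrime] (p : Ideal A'') [p.IsPrime]
    (hpq : p.comap π = q.comap (algebraMap A A')) :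
    Algebra.FormallyUnramified O (Localization.AtPrime p) := by
  haveI : Algebra.FiniteType O A'' := Algebra.FiniteType.of_surjective π hπ
  haveI : Module.Finite A'' Ω[A''⁄O] := inferInstance
  let K := q.ResidueField
  let ψ : A →+* K := (algebraMap A' K).comp (algebraMap A A')
  have hψ : ∀ a : A, ψ a = 0 ↔ π a ∈ p := fun a => by
    rw [RingHom.comp_apply, Ideal.algebraMap_residueField_eq_zero, ← Ideal.mem_comap, ← hpq, Ideal.mem_comap]
  let ψ' : A'' →+* K := RingHom.liftOfSurjective π.toRingHom hπ ⟨ψ, fun a ha => RingHom.mem_ker.2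
    ((hψ a).2 (by rw [show π a = 0 from RingHom.mem_ker.1 ha]; exact zero_mem _))⟩
  have hψ' : ∀ a, ψ' (π a) = ψ a := fun a => RingHom.liftOfRightInverse_comp_apply _ _ _ _ a
  letI : Algebra A'' K := ψ'.toAlgebra
  -- `D` kills the kernel of `π` after mapping to `K`
  have hzero : ∀ l : Ω[A''⁄O] →ₗ[A''] K, l = 0 := by
    intro l
    letI := π.toRingHom.toAlgebra
    haveI : IsScalarTower O A A'' := IsScalarTower.of_algebraMap_eq fun o => (π.commutes o).symm
    let L : Ω[A⁄O] →+ K := l.toAddMonoidHom.comp (KaehlerDifferential.map O O A A'').toAddMonoidHom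
    have hL : ∀ (a : A) (m : Ω[A⁄O]), L (a • m) = ψ a * L m := by
      intro a m
      show l (KaehlerDifferential.map O O A A'' (a • m)) = ψ a * l (KaehlerDifferential.map O O A A'' m)
      rw [map_smul, ← algebraMap_smul A'', map_smul, ← hψ']
      rfl
    have hLD : ∀ a : A, L (D O A a) = l (D O A'' (π a)) := by
      intro a
      show l (KaehlerDifferential.map O O A A'' (D O A a)) = _
      rw [map_D]
      rfl
    let L' : Ω[A⁄O] →ₗ[A] K :=
      { toFun := L, map_add' := L.map_add, map_smul' := fun a m => by
          rw [hL, RingHom.id_apply, Algebra.smul_def, IsScalarTower.algebraMap_apply A A' K]; rfl }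
    let M : Ω[A'⁄O] →ₗ[A'] K :=
      (L'.liftBaseChange A').comp (tensorKaehlerEquivOfFormallyEtale O A A').symm.toLinearMap
    have hMD : ∀ a : A, M (D O A' (algebraMap A A' a)) = L (D O A a) := fun a => by
      simp only [M, LinearMap.comp_apply, LinearEquiv.coe_coe,
        tensorKaehlerEquivOfFormallyEtale_symm_D_algebraMap, LinearMap.liftBaseChange_tmul, one_smul]
      rfl
    have hI : ∀ w ∈ (Fitt.ideal A Ω[A⁄O] 1).map (algebraMap A A'),
        algebraMap A' K w = 0 ∧ M (D O A' w) = 0 := by
      intro w hw
      rw [Ideal.map] at hw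
      induction hw using Submodule.span_induction with
      | mem w hw =>
        obtain ⟨j, hj, rfl⟩ := hw
        have hj0 : π j = 0 := RingHom.mem_ker.1 (hJ hj)
        refine ⟨(hψ j).2 (by rw [hj0]; exact zero_mem _), ?_⟩
        rw [hMD, hLD, hj0, map_zero, map_zero]
      | zero => simp
      | add w w' _ _ h h' => exact ⟨by rw [map_add, h.1, h'.1, add_zero], by rw [map_add, map_add, h.2, h'.2, add_zero]⟩
      | smul c w _ h =>
        refine ⟨by rw [smul_eq_mul, map_mul, h.1, mul_zero], ?_⟩
        rw [smul_eq_mul, Derivation.leibniz, map_add, map_smul, map_smul, h.2, smul_zero, zero_add,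
          Algebra.smul_def, h.1, zero_mul]
    have hrel : v • D O A' u + u • D O A' v = 0 := by
      rw [add_comm, ← Derivation.leibniz]; exact huv
    have hFitt : (Fitt.ideal A Ω[A⁄O] 1).map (algebraMap A A') = Fitt.ideal A' Ω[A'⁄O] 1 := by
      rw [← Fit14.ideal_baseChange (M := Ω[A⁄O]) A' 1]
      exact Fit14.ideal_congr (tensorKaehlerEquivOfFormallyEtale O A A') 1
    obtain ⟨hv, hu⟩ := mem_ideal_one _ _ v u hspan hrel
    rw [← hFitt] at hu hv
    have hM : M = 0 := by
      apply LinearMap.ext_on hspan
      rintro w (rfl | rfl)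
      · exact (hI u hu).2
      · exact (hI v hv).2
    apply LinearMap.ext_on (span_range_derivation O A'')
    rintro _ ⟨b, rfl⟩
    obtain ⟨a, rfl⟩ := hπ b
    rw [← hLD, ← hMD, hM]
    rfl
  -- Nakayama
  have hns : (⟨p, inferInstance⟩ : PrimeSpectrum A'') ∉ Module.support A'' Ω[A''⁄O] := by
    rw [Module.mem_support_iff_nontrivial_residueField_tensorProduct, not_nontrivial_iff_subsingleton]
    by_contra hne
    rw [not_subsingleton_iff_nontrivial] at hne
    let ι : p.ResidueField →+* K := Ideal.ResidueField.lift p ψ'
      (fun b hb => by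
        obtain ⟨a, rfl⟩ := hπ b
        rw [RingHom.mem_ker, hψ']; exact (hψ a).2 hb)
      (fun b hb => by
        obtain ⟨a, rfl⟩ := hπ b
        show IsUnit (ψ' (π a))
        rw [hψ', isUnit_iff_ne_zero, Ne, hψ]; exact hb)
    have hιa : ∀ b : A'', ι (algebraMap A'' p.ResidueField b) = ψ' b :=
      fun b => by simp [ι]
    obtain ⟨w, hw⟩ := exists_ne (0 : p.ResidueField ⊗[A''] Ω[A''⁄O])
    obtain ⟨φ, hφ⟩ := exists_dual_ne_zero (k := p.ResidueField) hw
    apply hφ
    clear hφ hw
    let l : Ω[A''⁄O] →ₗ[A''] K :=
      { toFun := fun m => ι (φ (1 ⊗ₜ m))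
        map_add' := fun m m' => by rw [tmul_add, map_add, map_add]
        map_smul' := fun b m => by
          rw [RingHom.id_apply, tmul_smul, ← algebraMap_smul p.ResidueField, map_smul, smul_eq_mul, map_mul, hιa]
          rfl }
    have hl := hzero l
    induction w using TensorProduct.induction_on with
    | zero => rw [map_zero]
    | tmul c m =>
      have : φ (1 ⊗ₜ m) = 0 := ι.injective (by rw [map_zero]; exact LinearMap.congr_fun hl m)
      rw [← mul_one c, ← smul_eq_mul, ← smul_tmul', map_smul, this, smul_zero]
    | add s t hs ht => rw [map_add, hs, ht, add_zero]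
  rw [Module.notMem_support_iff] at hns
  rw [Algebra.formallyUnramified_iff]
  exact (IsLocalizedModule.iso p.primeCompl
    (KaehlerDifferential.map O O A'' (Localization.AtPrime p))).symm.toEquiv.subsingleton

end Groth.Agent.NodeFit7
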