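import Groth.Agent.NodeFit7.Alg
import Groth.Agent.Node12.Loc.Locus
import Groth.Agent.Div89.FittingOmega
import Groth.Agent.Var76.OmegaSmooth
import Groth.Agent.Var76.OmegaUniv
import Groth.Agent.E4O.FibreComp
import Groth.Agent.TopDim50.Basic
import Groth.Prelude.Def_Omega3

/-!
The singular scheme of a nodal family is unramified over the base.
-/

set_option autoImplicit false
set_option linter.style.haveILetI false
set_option maxHeartbeats 1600000
set_option synthInstance.maxHeartbeats 100000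
set_option backward.isDefEq.respectTransparency.types false

universe u

open CategoryTheory Limits AlgebraicGeometry TopologicalSpace
open Groth.Agent.Node12.Loc

noncomputable section

namespace Groth.Agent.NodeFit7

variable {X B : Scheme.{u}} (f : X ⟶ B)

/-- The value of the Fitting ideal sheaf of the differentials on an affine chart. -/
theorem sheafIdeal_eq [QuasiSeparated f] [LocallyOfFiniteType f] {Ω : X.Modules} {d : OmegaSh.Der f Ω}
    (hd : OmegaSh.IsUniversal d) (W : X.affineOpens) (V : B.Opens) (hV : IsAffineOpen V) (h : W.1 ≤ f ⁻¹ᵁ V) :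
    letI := (f.appLE V W.1 h).hom.toAlgebra
    (Fitt.sheafIdeal Ω 1).ideal W = Fitt.ideal Γ(X, W.1) Ω[Γ(X, W.1)⁄Γ(B, V)] 1 := by
  letI := (f.appLE V W.1 h).hom.toAlgebra
  obtain ⟨e, -⟩ := Var76.OmegaUniv.exists_iso f d hd
  have hqΩ : Coh.IsQCoh Ω := SchBasics.isQuasicoherent_of_isUniversal hd
  have hq := Omega57.isQuasicoherent_omega f
  rw [← Div89.fitting_congr e hq (Div89.isFT_omegaSheaf f) hqΩ (Om3.isFT_omega hd) 1,
    Div89.fitting_ideal_eq _ hq (Div89.isFT_omegaSheaf f) 1 W]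
  obtain ⟨j⟩ := Var76.OmegaSmooth.exists_equiv f W.2 hV h
  haveI : (Omega.sheaf f).IsQuasicoherent := hq
  haveI : (Omega.sheaf f).IsFiniteType := Div89.isFT_omegaSheaf f
  haveI := QC70.finite_sections_of_isFiniteType (Omega.sheaf f) W.2
  exact Fit14.ideal_congr j.symm 1

theorem fibreDimAt_le_one (hf : Curv2.IsNodalFamily f) (x : X) : FlatMor.fibreDimAt f x ≤ 1 := by
  refine (E4O.fibreDimAt_le_dim_fiber f x).trans ?_
  rw [TopDim50.dim_eq_iSup_irreducibleComponents]
  exact iSup₂_le fun Z hZ => ((hf.2.2 (f x)).1 Z hZ).le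

/-- At a point of the singular scheme the family has a node. -/
theorem nodeAt_of_mem_support (hf : Curv2.IsNodalFamily f) [QuasiSeparated f] [LocallyOfFiniteType f]
    {Ω : X.Modules} {d : OmegaSh.Der f Ω} (hd : OmegaSh.IsUniversal d) (x : X)
    (hx : x ∈ (Fitt.sheafIdeal Ω 1).support) : NodeAt f x := by
  refine (good_of_nodalFamily f hf x).resolve_left fun hU => ?_
  haveI : LocallyOfFinitePresentation f := hf.2.1
  obtain ⟨n, U, hxU, hsm, hn⟩ := exists_smoothRelDim_nhd f x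
    ((Scheme.Hom.mem_smoothLocus).2 ((Unr55.exists_smooth_iff f x).1 hU))
  have hn1 : n ≤ 1 := by
    have := hn ▸ fibreDimAt_le_one f hf x
    exact_mod_cast this
  obtain ⟨V, hV, W, hW, hxW, e, hstd⟩ := hsm.exists_isStandardSmoothOfRelativeDimension ⟨x, hxU⟩
  let W' : X.affineOpens := ⟨U.ι ''ᵁ W, hW.image_of_isOpenImmersion U.ι⟩
  have e' : W'.1 ≤ f ⁻¹ᵁ V := by
    rintro _ ⟨w, hw, rfl⟩
    exact e hw
  have happ : f.appLE V W'.1 e' ≫ (U.ι.appIso W).hom = (U.ι ≫ f).appLE V W e := by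
    rw [Scheme.Hom.appIso_hom', Scheme.Hom.appLE_comp_appLE]
  letI := (f.appLE V W'.1 e').hom.toAlgebra
  have hstd' : (f.appLE V W'.1 e').hom.IsStandardSmoothOfRelativeDimension n := by
    have := RingHom.isStandardSmoothOfRelativeDimension_respectsIso (n := n)
    rw [← happ, CommRingCat.hom_comp] at hstd
    exact (this.cancel_right_isIso (f.appLE V W'.1 e') (U.ι.appIso W).hom).1 hstd
  have : Algebra.IsStandardSmoothOfRelativeDimension n Γ(B, V) Γ(X, W'.1) :=
    (RingHom.isStandardSmoothOfRelativeDimension_algebraMap n).1 hstd'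
  have := this.isStandardSmooth
  have hxW' : x ∈ W'.1 := ⟨⟨x, hxU⟩, hxW, rfl⟩
  have : Nonempty W'.1 := ⟨⟨x, hxW'⟩⟩
  have : Nontrivial Γ(X, W'.1) := inferInstance
  have hr : Module.finrank Γ(X, W'.1) Ω[Γ(X, W'.1)⁄Γ(B, V)] = n :=
    Module.finrank_eq_of_rank_eq (Algebra.IsStandardSmoothOfRelativeDimension.rank_kaehlerDifferential n)
  let b := Module.finBasisOfFinrankEq Γ(X, W'.1) Ω[Γ(X, W'.1)⁄Γ(B, V)] hr
  have htop : (Fitt.sheafIdeal Ω 1).ideal W' = ⊤ := by
    rw [sheafIdeal_eq f hd W' V hV e']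
    exact Fit14.ideal_eq_top_of_gens _ b.span_eq hn1
  rw [Scheme.IdealSheafData.mem_support_iff_of_mem hxW', Scheme.mem_zeroLocus_iff] at hx
  have h1 : (1 : Γ(X, W'.1)) ∈ ((Fitt.sheafIdeal Ω 1).ideal W' : Set Γ(X, W'.1)) := by
    rw [htop]; trivial
  exact hx 1 h1 (by rw [Scheme.basicOpen_of_isUnit _ isUnit_one]; exact hxW')

/-- The model at a node, in affine charts. -/
theorem exists_chart (hf : Curv2.IsNodalFamily f) (x : X) (hx : NodeAt f x) (W : X.affineOpens) (hxW : x ∈ W.1)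
    (V : B.Opens) (hV : IsAffineOpen V) (h : W.1 ≤ f ⁻¹ᵁ V) :
    ∃ (A' : CommRingCat.{u}) (g : Γ(X, W.1) ⟶ A') (a b : A') (q : Ideal A') (_ : q.IsPrime),
      g.hom.FormallyEtale ∧ q.comap g.hom = (W.2.primeIdealOf ⟨x, hxW⟩).asIdeal ∧
      (letI := (f.appLE V W.1 h ≫ g).hom.toAlgebra
       Submodule.span A' {KaehlerDifferential.D Γ(B, V) A' a, KaehlerDifferential.D Γ(B, V) A' b} = ⊤ ∧
        KaehlerDifferential.D Γ(B, V) A' (a * b) = 0) := by
  haveI : LocallyOfFinitePresentation f := hf.2.1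
  haveI : Flat f := hf.1
  obtain ⟨R, _, U, _, gU, gV, r, e, hgU, hgV, he, w, hxU⟩ := exists_scheme_model f (f x) (f.asFiber x) hx
  rw [Scheme.Hom.fiberι_asFiber] at hxU
  obtain ⟨y, hy⟩ := hxU
  let C := MvPolynomial (Fin 2) R ⧸ nodeEq r
  let s : Spec (CommRingCat.of U) ⟶ Spec (CommRingCat.of C) := Spec.map (CommRingCat.ofHom e)
  let t : Spec (CommRingCat.of U) ⟶ Spec (CommRingCat.of R) :=
    s ≫ Spec.map (CommRingCat.ofHom (algebraMap R C))
  have w' : gU ≫ f = t ≫ gV := by rw [w]; simp [t, s]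
  have hty : gV (t y) = f x := by rw [← Scheme.Hom.comp_apply, ← w', Scheme.Hom.comp_apply, hy]
  obtain ⟨_, ⟨E, hE, rfl⟩, hyE, hEV⟩ := (Spec (CommRingCat.of R)).isBasis_affineOpens.exists_subset_of_mem_open
    (show t y ∈ gV ⁻¹ᵁ V by show gV (t y) ∈ V; rw [hty]; exact h hxW) (gV ⁻¹ᵁ V).2
  obtain ⟨_, ⟨G, hG, rfl⟩, hyG, hGW⟩ := (Spec (CommRingCat.of U)).isBasis_affineOpens.exists_subset_of_mem_open
    (show y ∈ gU ⁻¹ᵁ W.1 ⊓ t ⁻¹ᵁ E from ⟨by show gU y ∈ W.1; rw [hy]; exact hxW, hyE⟩) (gU ⁻¹ᵁ W.1 ⊓ t ⁻¹ᵁ E).2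
  replace hE : IsAffineOpen E := hE
  replace hG : IsAffineOpen G := hG
  have hG1 : G ≤ gU ⁻¹ᵁ W.1 := fun z hz => (hGW hz).1
  have hG2 : G ≤ t ⁻¹ᵁ E := fun z hz => (hGW hz).2
  let g := gU.appLE W.1 G hG1
  have hgA : g.hom.FormallyEtale :=
    (HasRingHomProperty.appLE @Etale gU hgU W ⟨G, hG⟩ hG1).formallyEtale
  let cC : CommRingCat.of C ⟶ Γ(Spec (CommRingCat.of U), G) :=
    (Scheme.ΓSpecIso (CommRingCat.of C)).inv ≫ s.appLE ⊤ G le_top
  let cR : CommRingCat.of R ⟶ Γ(Spec (CommRingCat.of R), E) :=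
    (Scheme.ΓSpecIso (CommRingCat.of R)).inv ≫ (Spec (CommRingCat.of R)).presheaf.map (homOfLE le_top).op
  let cE : Γ(Spec (CommRingCat.of R), E) ⟶ Γ(Spec (CommRingCat.of U), G) := t.appLE E G hG2
  let iR : CommRingCat.of R ⟶ CommRingCat.of C := CommRingCat.ofHom (algebraMap R C)
  have hcc : cR ≫ cE = iR ≫ cC := by
    simp only [cR, cE, cC, Category.assoc]
    rw [Scheme.Hom.map_appLE]
    have h2 : t.appLE ⊤ G le_top = (Spec.map iR).appTop ≫ s.appLE ⊤ G le_top :=
      Scheme.Hom.comp_appLE s (Spec.map iR) ⊤ G le_top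
    rw [h2, ← Category.assoc, ← Scheme.ΓSpecIso_inv_naturality, Category.assoc]
  have hVG : f.appLE V W.1 h ≫ g = gV.appLE V E hEV ≫ cE := by
    simp only [g, cE, Scheme.Hom.appLE_comp_appLE, w']
  letI algO : Algebra Γ(B, V) Γ(Spec (CommRingCat.of U), G) := (f.appLE V W.1 h ≫ g).hom.toAlgebra
  letI algR' : Algebra R Γ(Spec (CommRingCat.of R), E) := cR.hom.toAlgebra
  letI algOR' : Algebra Γ(B, V) Γ(Spec (CommRingCat.of R), E) := (gV.appLE V E hEV).hom.toAlgebra
  letI algEA : Algebra Γ(Spec (CommRingCat.of R), E) Γ(Spec (CommRingCat.of U), G) := cE.hom.toAlgebra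
  letI algRA : Algebra R Γ(Spec (CommRingCat.of U), G) := (iR ≫ cC).hom.toAlgebra
  letI algCA : Algebra C Γ(Spec (CommRingCat.of U), G) := cC.hom.toAlgebra
  haveI : IsScalarTower R C Γ(Spec (CommRingCat.of U), G) :=
    IsScalarTower.of_algebraMap_eq (R := R) (S := C) (A := Γ(Spec (CommRingCat.of U), G)) fun _ => rfl
  haveI : IsScalarTower R Γ(Spec (CommRingCat.of R), E) Γ(Spec (CommRingCat.of U), G) :=
    IsScalarTower.of_algebraMap_eq' (congrArg CommRingCat.Hom.hom hcc.symm)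
  haveI : IsScalarTower Γ(B, V) Γ(Spec (CommRingCat.of R), E) Γ(Spec (CommRingCat.of U), G) :=
    IsScalarTower.of_algebraMap_eq' (congrArg CommRingCat.Hom.hom hVG)
  haveI : Algebra.FormallyUnramified Γ(B, V) Γ(Spec (CommRingCat.of R), E) :=
    haveI : Algebra.FormallyEtale Γ(B, V) Γ(Spec (CommRingCat.of R), E) :=
      (HasRingHomProperty.appLE @Etale gV hgV ⟨V, hV⟩ ⟨E, hE⟩ hEV).formallyEtale
    inferInstance
  have hs : Etale s := (HasRingHomProperty.Spec_iff (P := @Etale)).2 he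
  haveI : Algebra.FormallyEtale C Γ(Spec (CommRingCat.of U), G) :=
    (RingHom.Etale.respectsIso.2 (s.appLE ⊤ G le_top).hom
      (Scheme.ΓSpecIso (CommRingCat.of C)).symm.commRingCatIsoToRingEquiv
      (HasRingHomProperty.appLE @Etale s hs ⟨⊤, isAffineOpen_top _⟩ ⟨G, hG⟩ le_top)).formallyEtale
  let a : Γ(Spec (CommRingCat.of U), G) := algebraMap C _ (Ideal.Quotient.mk _ (MvPolynomial.X 0))
  let b : Γ(Spec (CommRingCat.of U), G) := algebraMap C _ (Ideal.Quotient.mk _ (MvPolynomial.X 1))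
  refine ⟨Γ(Spec (CommRingCat.of U), G), g, a, b, (hG.primeIdealOf ⟨y, hyG⟩).asIdeal, inferInstance, hgA, ?_,
    ?_, ?_⟩
  · have h1 := congrArg PrimeSpectrum.asIdeal
      (IsAffineOpen.comap_primeIdealOf_appLE (f := gU) W.1 W.2 G hG hG1 hyG)
    refine h1.trans ?_
    congr 2
    exact Subtype.ext hy
  · exact span_pair_transfer (R := R) (R' := Γ(Spec (CommRingCat.of R), E)) a b
      (span_pair_of_surjective (Ideal.Quotient.mkₐ R (nodeEq r)) Ideal.Quotient.mk_surjective)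
  · have hab : a * b = algebraMap R _ r := by
      rw [IsScalarTower.algebraMap_apply R C, ← nodeVar_mul, map_mul]
    rw [hab, IsScalarTower.algebraMap_apply R Γ(Spec (CommRingCat.of R), E),
      ← KaehlerDifferential.map_D Γ(B, V) Γ(B, V) Γ(Spec (CommRingCat.of R), E) Γ(Spec (CommRingCat.of U), G),
      Subsingleton.elim (KaehlerDifferential.D Γ(B, V) Γ(Spec (CommRingCat.of R), E) _) 0, map_zero]

/-- The singular scheme of a nodal family is formally unramified over the base. -/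
theorem formallyUnramified_fittingOne (hf : Curv2.IsNodalFamily f) [QuasiSeparated f] [LocallyOfFiniteType f]
    {Ω : X.Modules} {d : OmegaSh.Der f Ω} (hd : OmegaSh.IsUniversal d) :
    FormallyUnramified ((Fitt.sheafIdeal Ω 1).subschemeι ≫ f) := by
  let I := Fitt.sheafIdeal Ω 1
  let h := I.subschemeι ≫ f
  have key : ∀ z, (h.stalkMap z).hom.FormallyUnramified := by
    intro z
    obtain ⟨V, hV, hzV, -⟩ := exists_isAffineOpen_mem_and_subset (X := B) (x := h z) (U := ⊤) trivial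
    obtain ⟨W, hW, hzW, hWV⟩ := exists_isAffineOpen_mem_and_subset (show I.subschemeι z ∈ f ⁻¹ᵁ V from hzV)
    have hxZ : I.subschemeι z ∈ I.support := by
      rw [← SetLike.mem_coe, ← I.range_subschemeι]; exact ⟨z, rfl⟩
    have hN := nodeAt_of_mem_support f hf hd _ hxZ
    obtain ⟨A', g, a, b, q, _, hg, hq, hspan, hab⟩ := exists_chart f hf _ hN ⟨W, hW⟩ hzW V hV hWV
    let T := I.subschemeι ⁻¹ᵁ W
    have hT : IsAffineOpen T := hW.preimage I.subschemeι
    let π := I.subschemeι.app W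
    letI : Algebra Γ(B, V) Γ(X, W) := (f.appLE V W hWV).hom.toAlgebra
    letI : Algebra Γ(B, V) A' := (f.appLE V W hWV ≫ g).hom.toAlgebra
    letI : Algebra Γ(X, W) A' := g.hom.toAlgebra
    haveI : IsScalarTower Γ(B, V) Γ(X, W) A' := IsScalarTower.of_algebraMap_eq' rfl
    letI : Algebra Γ(B, V) Γ(I.subscheme, T) := (f.appLE V W hWV ≫ π).hom.toAlgebra
    haveI : Algebra.FiniteType Γ(B, V) Γ(X, W) :=
      HasRingHomProperty.appLE @LocallyOfFiniteType f inferInstance ⟨V, hV⟩ ⟨W, hW⟩ hWV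
    haveI : Algebra.FormallyEtale Γ(X, W) A' := hg
    let πₐ : Γ(X, W) →ₐ[Γ(B, V)] Γ(I.subscheme, T) := { π.hom with commutes' := fun _ => rfl }
    have hπ : Function.Surjective πₐ := I.subschemeι_app_surjective ⟨W, hW⟩
    have hJ : Fitt.ideal Γ(X, W) Ω[Γ(X, W)⁄Γ(B, V)] 1 ≤ RingHom.ker πₐ := by
      rw [← sheafIdeal_eq f hd ⟨W, hW⟩ V hV hWV]
      exact (I.ker_subschemeι_app ⟨W, hW⟩).ge
    let p := (hT.primeIdealOf ⟨z, hzW⟩).asIdeal
    have hp : p.comap πₐ = q.comap (algebraMap Γ(X, W) A') := by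
      have h1 := congrArg PrimeSpectrum.asIdeal
        (IsAffineOpen.comap_primeIdealOf_appLE (f := I.subschemeι) W hW T hT le_rfl (x := z) hzW)
      rw [Scheme.Hom.appLE_eq_app] at h1
      exact h1.trans hq.symm
    have := formallyUnramified_localization_of_node πₐ hπ hJ a b hspan hab q p hp
    letI : Algebra (B.presheaf.stalk (h z)) (I.subscheme.presheaf.stalk z) := (h.stalkMap z).hom.toAlgebra
    letI : Algebra Γ(B, V) (B.presheaf.stalk (h z)) := (B.presheaf.germ V (h z) hzV).hom.toAlgebra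
    letI : Algebra Γ(I.subscheme, T) (I.subscheme.presheaf.stalk z) :=
      (I.subscheme.presheaf.germ T z hzW).hom.toAlgebra
    haveI : IsLocalization.AtPrime (I.subscheme.presheaf.stalk z) p := hT.isLocalization_stalk ⟨z, hzW⟩
    letI : Algebra Γ(B, V) (I.subscheme.presheaf.stalk z) :=
      ((I.subscheme.presheaf.germ T z hzW).hom.comp (f.appLE V W hWV ≫ π).hom).toAlgebra
    haveI : IsScalarTower Γ(B, V) Γ(I.subscheme, T) (I.subscheme.presheaf.stalk z) :=
      IsScalarTower.of_algebraMap_eq' rfl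
    haveI : IsScalarTower Γ(B, V) (B.presheaf.stalk (h z)) (I.subscheme.presheaf.stalk z) := by
      refine IsScalarTower.of_algebraMap_eq fun c => ?_
      show I.subscheme.presheaf.germ T z hzW (π (f.appLE V W hWV c)) = h.stalkMap z (B.presheaf.germ V (h z) hzV c)
      rw [Scheme.Hom.germ_stalkMap_apply]
      show I.subscheme.presheaf.germ T z hzW (I.subschemeι.app W (X.presheaf.map (homOfLE hWV).op (f.app V c))) =
        I.subscheme.presheaf.germ (I.subschemeι ⁻¹ᵁ (f ⁻¹ᵁ V)) z hzV (I.subschemeι.app (f ⁻¹ᵁ V) (f.app V c))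
      refine (Scheme.Hom.germ_stalkMap_apply I.subschemeι W z hzW _).symm.trans
        ((congrArg (I.subschemeι.stalkMap z) ?_).trans
          (Scheme.Hom.germ_stalkMap_apply I.subschemeι (f ⁻¹ᵁ V) z hzV (f.app V c)))
      exact TopCat.Presheaf.germ_res_apply _ _ _ _ _
    haveI : Algebra.FormallyUnramified Γ(B, V) (I.subscheme.presheaf.stalk z) :=
      Algebra.FormallyUnramified.of_equiv ((IsLocalization.algEquiv p.primeCompl (Localization.AtPrime p)
        (I.subscheme.presheaf.stalk z)).restrictScalars Γ(B, V))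
    exact Algebra.FormallyUnramified.of_restrictScalars Γ(B, V) _ _
  haveI : LocallyOfFiniteType h := inferInstance
  choose U hzU hU using fun z => (SchBasics.exists_formallyUnramified_iff_stalkMap h z).2 (key z)
  refine (IsZariskiLocalAtSource.iff_of_openCover (P := @FormallyUnramified)
    (I.subscheme.openCoverOfIsOpenCover U ?_)).2 hU
  exact IsOpenCover.mk (top_le_iff.mp fun z _ => Opens.mem_iSup.mpr ⟨z, hzU z⟩)

end Groth.Agent.NodeFit7
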